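import Groth.Agent.Lib.Helper22.Canon.TopExt
import Groth.Agent.Lib.Helper29.PullSect
import Groth.Prelude.Def_ExtPow2

/-!
# The top exterior power of a finite locally free module of rank `n` is invertible (helper22)
-/

set_option autoImplicit false
set_option linter.unusedSectionVars false
set_option linter.style.haveILetI false
set_option linter.unusedVariables false
universe u
open CategoryTheory CategoryTheory.Limits Opposite TopologicalSpace AlgebraicGeometry

namespace Groth.Agent.Lib.Helper22.Canon

open Groth.Agent.Lib.Helper29.QCoh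

variable {X : Scheme.{u}}

/-- The restricted family of a basis over an affine open is a basis over every basic open. -/
theorem exists_basis_res_basicOpen (E : X.Modules) [E.IsQuasicoherent] {V : X.Opens}
    (hV : IsAffineOpen V) (n : ℕ) (b : Module.Basis (Fin n) Γ(X, V) Γ(E, V)) (g : Γ(X, V)) :
    ∃ b' : Module.Basis (Fin n) Γ(X, X.basicOpen g) Γ(E, X.basicOpen g),
      ∀ i, b' i = res E (X.basicOpen_le g) (b i) := by
  letI := sectionsModule E (X.basicOpen_le g)
  haveI := isLocalizedModule_res_basicOpen E hV g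
  haveI : IsLocalization.Away g Γ(X, X.basicOpen g) := hV.isLocalization_basicOpen g
  haveI : IsScalarTower Γ(X, V) Γ(X, X.basicOpen g) Γ(E, X.basicOpen g) :=
    IsScalarTower.of_algebraMap_smul fun r m => rfl
  refine ⟨b.ofIsLocalizedModule Γ(X, X.basicOpen g) (Submonoid.powers g)
    (resₗ E (X.basicOpen_le g)), fun i => ?_⟩
  rw [Module.Basis.ofIsLocalizedModule_apply]
  rfl

/-- **An `n`-th exterior power of a finite locally free module of rank `n` is invertible.** -/
theorem isInvertible_of_isExtPow (E L : X.Modules) [E.IsQuasicoherent] (n : ℕ)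
    (hE : FlatMod.IsFinLocFreeOfRank n E) (hL : ExtPow.IsExtPow n E L) : PicF.IsInvertible L := by
  obtain ⟨φ, hφ⟩ := hL
  intro x
  obtain ⟨V, hV, hxV, ⟨ε⟩⟩ := exists_affine_linearEquiv_of_isFinLocFreeOfRank hE x
  let b : Module.Basis (Fin n) Γ(X, V) Γ(E, V) := Module.Basis.ofRepr ε
  let ev : Fin n → Γ(E, V) := fun i => b (topσ n i)
  let e : Γ(L, V) := (φ ⟨V, hV⟩).symm (exteriorPower.ιMulti _ n ev)
  have hT : IsTriv L V e := by
    intro W hW
    refine bijective_of_forall_basis (M := unitM X) (N := L) (U := V)
      (fun W => ∃ g : Γ(X, V), W = X.basicOpen g) ?_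
      (fun W hW => smulHom L (res L hW e)) ?_ ?_ W hW
    · intro W _ y hy
      obtain ⟨g, hg1, hg2⟩ := hV.exists_basicOpen_le (V := W) ⟨y, hy⟩ (by
        exact ‹W ≤ V› hy)
      exact ⟨X.basicOpen g, hg1, hg2, g, rfl⟩
    · intro W₁ W₂ h h' r
      change (X.presheaf.map (homOfLE h').op (fromUnit r)) • res L (h'.trans h) e =
        res L h' (fromUnit r • res L h e)
      rw [res_smul, res_res]
    · rintro W h ⟨g, rfl⟩
      obtain ⟨b', hb'⟩ := exists_basis_res_basicOpen E hV n b g
      have h1 := bijective_smul_ιMulti n b'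
      have h2 := hφ ⟨V, hV⟩ ⟨X.basicOpen g, hV.basicOpen g⟩ (X.basicOpen_le g) ev
      have h3 : res L h e = (φ ⟨X.basicOpen g, hV.basicOpen g⟩).symm
          (exteriorPower.ιMulti _ n (fun i => b' (topσ n i))) := by
        refine Eq.trans h2 ?_
        congr 2
        funext i
        exact (hb' (topσ n i)).symm
      change Function.Bijective (fun r : Γ(unitM X, X.basicOpen g) => fromUnit r • res L h e)
      rw [h3]
      have hfun : (fun r : Γ(unitM X, X.basicOpen g) => fromUnit r •
          (φ ⟨X.basicOpen g, hV.basicOpen g⟩).symm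
            (exteriorPower.ιMulti _ n (fun i => b' (topσ n i)))) =
          (φ ⟨X.basicOpen g, hV.basicOpen g⟩).symm ∘
            (fun r : Γ(X, X.basicOpen g) =>
              r • exteriorPower.ιMulti _ n (fun i => b' (topσ n i))) := by
        funext r
        simp only [Function.comp_apply]
        exact ((φ ⟨X.basicOpen g, hV.basicOpen g⟩).symm.map_smul (fromUnit r) _).symm
      exact Eq.mpr (congrArg Function.Bijective hfun)
        ((φ ⟨X.basicOpen g, hV.basicOpen g⟩).symm.bijective.comp h1)
  obtain ⟨σ, -⟩ := hT.exists_iso_restrict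
  exact ⟨V, hxV, ⟨σ.symm⟩⟩

end Groth.Agent.Lib.Helper22.Canon
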