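import Groth.Agent.Lib.Helper29.VA7
import Groth.Prelude.Def_RedSub

/-!
# Locally projective morphisms are proper (helper22)
-/

set_option autoImplicit false
set_option linter.style.haveILetI false
universe u
open CategoryTheory CategoryTheory.Limits Opposite TopologicalSpace AlgebraicGeometry

namespace Groth.Agent.Lib.Helper22.Canon

theorem isProper_of_isLocallyProjective {X S : Scheme.{u}} (f : X ⟶ S)
    (h : RedSub.IsLocallyProjective (Over.mk f)) : IsProper f := by
  choose V hV n e he hfac using h
  have hcov : iSup V = ⊤ := by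
    rw [eq_top_iff]
    intro s _
    exact Opens.mem_iSup.mpr ⟨s, hV s⟩
  rw [IsZariskiLocalAtTarget.iff_of_iSup_eq_top (P := @IsProper) V hcov]
  intro s
  haveI := he s
  haveI : IsProper (CohB1.ProjSpaceOver.toBase (n s) (V s : Scheme.{u})) :=
    Groth.Agent.Lib.Helper29.QCoh.isProper_toBase _ _
  have h1 : IsProper (pullback.snd f (V s).ι) := by
    have h2 : IsProper (e s ≫ CohB1.ProjSpaceOver.toBase (n s) (V s : Scheme.{u})) := inferInstance
    rw [hfac s] at h2
    exact h2
  have h3 : f ∣_ V s = (pullbackRestrictIsoRestrict f (V s)).inv ≫ pullback.snd f (V s).ι := rfl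
  rw [h3]
  infer_instance

end Groth.Agent.Lib.Helper22.Canon
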