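import Groth.Agent.Lib.Helper29.QCohLocFreeDescent
import Groth.Agent.Lib.Helper29.SemiLoc2

/-!
# Descent of "finite locally free of rank `r`" along fpqc morphisms (helper22)
-/

set_option autoImplicit false
set_option linter.unusedSectionVars false
set_option linter.style.haveILetI false
set_option linter.unusedVariables false
universe u
open CategoryTheory CategoryTheory.Limits Opposite TopologicalSpace AlgebraicGeometry

namespace Groth.Agent.Lib.Helper22.Canon

open Groth.Agent.Lib.Helper29.QCoh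

variable {X S : Scheme.{u}}

theorem isFinLocFreeOfRank_of_iso' {r : ℕ} {M N : X.Modules} (e : M ≅ N)
    (h : FlatMod.IsFinLocFreeOfRank r M) : FlatMod.IsFinLocFreeOfRank r N := by
  rw [isFinLocFreeOfRank_iff_isFreeAlong] at h ⊢
  intro x
  obtain ⟨U, hx, hU⟩ := h x
  exact ⟨U, hx, hU.of_iso e⟩

/-- If `f` is flat, surjective and quasi-compact and `f^* M` is locally free of rank `r`, so is the
quasi-coherent module `M`. -/
theorem isFinLocFreeOfRank_of_pullback (f : X ⟶ S) [Flat f] [Surjective f] [QuasiCompact f]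
    (M : S.Modules) [M.IsQuasicoherent] (r : ℕ)
    (h : FlatMod.IsFinLocFreeOfRank r ((Scheme.Modules.pullback f).obj M)) :
    FlatMod.IsFinLocFreeOfRank r M := by
  have hM : FlatMod.IsFinLocFree M :=
    isFinLocFree_of_pullback f M (isFinLocFree_of_isFinLocFreeOfRank h)
  rw [isFinLocFreeOfRank_iff_isFreeAlong]
  intro x
  obtain ⟨U, n, hxU, hfree⟩ := (isFinLocFree_iff_isFreeAlong M).mp hM x
  refine ⟨U, hxU, ?_⟩
  suffices hn : n = r by rw [← hn]; exact hfree
  have h1 : IsFreeAlong ((Scheme.Modules.pullback f).obj M) (f ⁻¹ᵁ U).ι n :=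
    hfree.pullback f _ (f ∣_ U) (morphismRestrict_ι f U).symm
  obtain ⟨e1⟩ := h1
  let E : (f ⁻¹ᵁ U).toScheme.Modules :=
    (Scheme.Modules.pullback (f ⁻¹ᵁ U).ι).obj ((Scheme.Modules.pullback f).obj M)
  have hEn : FlatMod.IsFinLocFreeOfRank n E :=
    isFinLocFreeOfRank_of_isFreeAlong n E fun z => ⟨(f ⁻¹ᵁ U).toScheme, 𝟙 _, inferInstance,
      ⟨z, rfl⟩, ⟨(Scheme.Modules.pullbackId _).app E ≪≫ e1⟩⟩
  have hEr : FlatMod.IsFinLocFreeOfRank r E := isFinLocFreeOfRank_pullback (f ⁻¹ᵁ U).ι h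
  obtain ⟨z, hz⟩ := f.surjective x
  let z' : (f ⁻¹ᵁ U).toScheme := ⟨z, by change f z ∈ U; rw [hz]; exact hxU⟩
  have h2 := rankAtStalk_stalk_of_isFinLocFreeOfRank hEn z'
  have h3 := rankAtStalk_stalk_of_isFinLocFreeOfRank hEr z'
  exact h2.symm.trans h3

end Groth.Agent.Lib.Helper22.Canon
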