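import Mathlib

/-!
# The top exterior power of a finite free module is free of rank one (helper22)
-/

set_option autoImplicit false
universe u

namespace Groth.Agent.Lib.Helper22.Canon

open Set in
/-- The (order-preserving) enumeration of `Fin n` used for the generator of the top exterior
power. -/
noncomputable def topσ (n : ℕ) : Fin n → Fin n :=
  fun i => (powersetCard.ofFinEmbEquiv.symm
    (⟨Finset.univ, by simp [powersetCard]⟩ : powersetCard (Fin n) n)) i

open Set in
/-- For a basis `b` indexed by `Fin n`, the `n`-th exterior power is free of rank one on the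
decomposable element `b (σ 0) ∧ ⋯ ∧ b (σ (n-1))`, `σ = topσ n`. -/
theorem bijective_smul_ιMulti {R M : Type*} [CommRing R] [AddCommGroup M] [Module R M]
    (n : ℕ) (b : Module.Basis (Fin n) R M) :
    Function.Bijective (fun r : R => r • exteriorPower.ιMulti R n (fun i => b (topσ n i))) := by
  classical
  let B := b.exteriorPower n
  let s₀ : powersetCard (Fin n) n := ⟨Finset.univ, by simp [powersetCard]⟩
  have hsub : ∀ s : powersetCard (Fin n) n, s = s₀ := by
    intro s
    apply Subtype.ext
    apply Finset.eq_univ_of_card
    have := s.2
    simpa [powersetCard] using this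
  have hgen : exteriorPower.ιMulti R n (fun i => b (topσ n i)) = B s₀ := by
    rw [exteriorPower.basis_apply]
    rfl
  rw [hgen]
  constructor
  · intro r r' h
    have h1 : B.repr (r • B s₀) s₀ = B.repr (r' • B s₀) s₀ := by
      rw [show r • B s₀ = r' • B s₀ from h]
    simpa using h1
  · intro x
    refine ⟨B.repr x s₀, ?_⟩
    apply B.repr.injective
    ext s
    rw [hsub s]
    simp

end Groth.Agent.Lib.Helper22.Canon
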